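import Groth.Prelude.Def_OmegaPn
import Groth.Prelude.Def_Curv2
import Groth.Agent.Dix.Cast1
import Groth.Agent.Dix.IdealModCartier
import Groth.Agent.Dix.InterNum
import Groth.Agent.Ega2.TensMon
import Groth.Agent.CurvesC.DegIso
import Groth.Agent.Fga.HodgePush
import Groth.Agent.S2329

/-!
# The Euler characteristic of an invertible module on the thickenings of an effective Cartier divisor

`chi_nbhd`: if `i : X ⟶ P` is a closed immersion with invertible ideal `I`, `E` the closed subscheme of ideal `I ^ m`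
and `M` an invertible module on `P`, then `χ(E, M|E) = ∑ j < m, χ(X, i^*(I^{⊗ j} ⊗ M))`.
-/

set_option autoImplicit false
universe u

open CategoryTheory CategoryTheory.Limits AlgebraicGeometry TopologicalSpace

namespace K983.ChiPP

open Groth.Agent Groth.Agent.Fdesc.LocGen Groth.Agent.Ega2 Groth.Agent.Dix.IdealModCartier

/-- The modules `I^{⊗ j} ⊗ M`. -/
noncomputable def twist {P : Scheme.{u}} (I : P.IdealSheafData) (M : P.Modules) : ℕ → P.Modules
  | 0 => M
  | j + 1 => CohB1.tensorMod (ClSub.idealMod I) (twist I M j)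

theorem isInvertible_twist {P : Scheme.{u}} {I : P.IdealSheafData} {M : P.Modules}
    (hI : PicF.IsInvertible (ClSub.idealMod I)) (hM : PicF.IsInvertible M) (j : ℕ) :
    PicF.IsInvertible (twist I M j) := by
  induction j with
  | zero => exact hM
  | succ j ih => exact isInvertible_tensorMod hI ih

theorem isEffCartierIdeal_mul {P : Scheme.{u}} {D E : P.IdealSheafData}
    (hD : BlowUp.IsEffCartierIdeal D) (hE : BlowUp.IsEffCartierIdeal E) : BlowUp.IsEffCartierIdeal (D * E) := by
  intro x
  obtain ⟨U, a, b, hx, ha, hb⟩ := exists_genOn₂ hD hE x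
  have h := ha.mul hb U le_rfl
  exact ⟨U, hx, _, h.1, h.2⟩

theorem isEffCartierIdeal_pow_succ {P : Scheme.{u}} {D : P.IdealSheafData}
    (hD : BlowUp.IsEffCartierIdeal D) (n : ℕ) : BlowUp.IsEffCartierIdeal (D ^ (n + 1)) := by
  induction n with
  | zero => simpa using hD
  | succ n ih => rw [pow_succ]; exact isEffCartierIdeal_mul ih hD

/-- `I^{⊗ (j + 1)} ⊗ M ≅ I^{j + 1} ⊗ M`. -/
theorem nonempty_twist_iso {P : Scheme.{u}} {I : P.IdealSheafData} (M : P.Modules)
    (hI : BlowUp.IsEffCartierIdeal I) (j : ℕ) :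
    Nonempty (twist I M (j + 1) ≅ CohB1.tensorMod (ClSub.idealMod (I ^ (j + 1))) M) := by
  induction j with
  | zero => rw [zero_add, pow_one]; exact ⟨Iso.refl _⟩
  | succ j ih =>
    obtain ⟨e⟩ := ih
    obtain ⟨e'⟩ := idealMod_mul hI (isEffCartierIdeal_pow_succ hI j)
    rw [show I ^ (j + 1 + 1) = I * I ^ (j + 1) from pow_succ' _ _]
    exact ⟨Tens.mapTIso (Iso.refl (ClSub.idealMod I)) e ≪≫ (Tens.assoc _ _ _).symm ≪≫
      Tens.mapTIso e' (Iso.refl M)⟩

section Restrict

variable (k : Type u) [Field k] {P E : Scheme.{u}} [P.Over (Spec (CommRingCat.of k))]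
  [E.Over (Spec (CommRingCat.of k))] [IsProper (P ↘ Spec (CommRingCat.of k))]

/-- The Euler characteristic and the restriction sequence. -/
theorem euler_restrict (ι : E ⟶ P) [IsClosedImmersion ι]
    (hι : ι ≫ (P ↘ Spec (CommRingCat.of k)) = E ↘ Spec (CommRingCat.of k))
    {N : P.Modules} (hN : PicF.IsInvertible N) (hI : PicF.IsInvertible (ClSub.idealMod ι.ker)) :
    Curv2.euler k P N = Curv2.euler k P (CohB1.tensorMod (ClSub.idealMod ι.ker) N) +
      Curv2.euler k E ((Scheme.Modules.pullback ι).obj N) := by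
  have : IsLocallyNoetherian P := LocallyOfFiniteType.isLocallyNoetherian (P ↘ (Spec (CommRingCat.of k)))
  have h1 := S1524.result k P _ (Dix.Cast1.restrictSeq_shortExact ι hN)
    (Groth.Agent.S2329.isCoh_of_isInvertible (isInvertible_tensorMod hI hN))
    (Groth.Agent.S2329.isCoh_of_isInvertible hN)
    (Fga.HodgePush.isCoh_push ι (Groth.Agent.S2329.isCoh_of_isInvertible (isInvertible_pullback ι hN)))
  rw [← CurvesC.DegIso.euler_push k ι hι]
  exact h1

theorem euler_twist {X : Scheme.{u}} [X.Over (Spec (CommRingCat.of k))] (i : X ⟶ P) [IsClosedImmersion i]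
    (hi : i ≫ (P ↘ Spec (CommRingCat.of k)) = X ↘ Spec (CommRingCat.of k))
    (hI : BlowUp.IsEffCartierIdeal i.ker) {M : P.Modules} (hM : PicF.IsInvertible M) (m : ℕ) :
    Curv2.euler k P M = Curv2.euler k P (twist i.ker M m) +
      ∑ j ∈ Finset.range m, Curv2.euler k X ((Scheme.Modules.pullback i).obj (twist i.ker M j)) := by
  have hI' := isInvertible_idealMod hI
  induction m with
  | zero => simp [twist]
  | succ m ih =>
    rw [ih, Finset.sum_range_succ, euler_restrict k i hi (isInvertible_twist hI' hM m) hI']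
    rw [twist]
    ring

/-- The Euler characteristic of an invertible module on a thickening of an effective Cartier divisor. -/
theorem chi_nbhd {X : Scheme.{u}} [X.Over (Spec (CommRingCat.of k))] (i : X ⟶ P) [IsClosedImmersion i]
    (hi : i ≫ (P ↘ Spec (CommRingCat.of k)) = X ↘ Spec (CommRingCat.of k))
    (hI : BlowUp.IsEffCartierIdeal i.ker) (ι : E ⟶ P) [IsClosedImmersion ι]
    (hι : ι ≫ (P ↘ Spec (CommRingCat.of k)) = E ↘ Spec (CommRingCat.of k)) (m : ℕ)
    (hker : ι.ker = i.ker ^ (m + 1)) {M : P.Modules} (hM : PicF.IsInvertible M) :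
    Curv2.euler k E ((Scheme.Modules.pullback ι).obj M) =
      ∑ j ∈ Finset.range (m + 1), Curv2.euler k X ((Scheme.Modules.pullback i).obj (twist i.ker M j)) := by
  have h1 := euler_twist k i hi hI hM (m + 1)
  have h2 := euler_restrict k ι hι hM
    (by rw [hker]; exact isInvertible_idealMod (isEffCartierIdeal_pow_succ hI m))
  obtain ⟨e⟩ := nonempty_twist_iso M hI m
  rw [hker, ← CurvesC.DegIso.euler_congr k e] at h2
  rw [h2] at h1
  linarith

end Restrict

end K983.ChiPP
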