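import Groth.Prelude.Def_OmegaPn
import Groth.Agent.Nrm16.K137.InfNbhd

/-!
# Infinitesimal neighbourhoods of the diagonal of a separated morphism

For `f` separated, `nbhdι f n : nbhd f n ⟶ X ×_S X` is a closed immersion with ideal `I ^ (n + 1)`, `I` the ideal
of the diagonal.
-/

set_option autoImplicit false
universe u

open CategoryTheory CategoryTheory.Limits AlgebraicGeometry TopologicalSpace PrinPart

namespace K983.NbhdCl

/-- The source of a closed immersion is closed in the whole target. -/
theorem coborderRange_eq_top {Z X : Scheme.{u}} (i : Z ⟶ X) [IsClosedImmersion i] : i.coborderRange = ⊤ := by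
  apply TopologicalSpace.Opens.ext
  change coborder (Set.range i) = Set.univ
  rw [coborder_eq_univ_iff]
  exact i.isClosedEmbedding.isClosed_range

instance isIso_coborderRange_ι {Z X : Scheme.{u}} (i : Z ⟶ X) [IsClosedImmersion i] :
    IsIso i.coborderRange.ι := by
  have h : Surjective i.coborderRange.ι := by
    refine ⟨fun x => ?_⟩
    have hx : x ∈ i.coborderRange := by rw [coborderRange_eq_top]; trivial
    exact ⟨⟨x, hx⟩, rfl⟩
  exact isIso_iff_isOpenImmersion_and_surjective _ |>.2 ⟨inferInstance, h⟩

variable {X S : Scheme.{u}} (f : X ⟶ S) [IsSeparated f] (n : ℕ)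

instance isClosedImmersion_nbhdι : IsClosedImmersion (nbhdι f n) := by
  have h1 : IsClosedImmersion (infNbhdι (diagCl f) n) := K137.InfNbhd.isClosedImmersion_infNbhdι _ n
  have h2 : IsIso (pullback.diagonal f).coborderRange.ι := isIso_coborderRange_ι _
  have h3 : IsClosedImmersion (pullback.diagonal f).coborderRange.ι := inferInstance
  unfold nbhdι
  infer_instance

theorem ker_nbhdι : (nbhdι f n).ker = (pullback.diagonal f).ker ^ (n + 1) := by
  apply Scheme.IdealSheafData.ext
  funext U
  let c : K137.Imm.Ch (pullback.diagonal f) :=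
    ⟨U.1, U.2, by rw [coborderRange_eq_top]; exact le_top⟩
  rw [Scheme.Hom.ker_apply, Scheme.IdealSheafData.ideal_pow, Pi.pow_apply, Scheme.Hom.ker_apply]
  exact K137.InfNbhd.ker_imm_app n c

end K983.NbhdCl
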